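import Cfsg.Prelude.Def_GeometricClasses
import Mathlib

/-!
A homogeneous module whose irreducible constituent has only scalar endomorphisms is a tensor product, and
the normaliser of the group acting lies in the stabiliser of that tensor decomposition.
-/

set_option autoImplicit false

namespace Cfsg.Agent.Lib.MaxTensor

open Matrix
open scoped MatrixGroups Matrix Kronecker

variable {ι : Type} [Fintype ι] [DecidableEq ι] {F : Type*} [Field F]

/-- The map `(v j)_j ↦ ∑ j, φ j (v j)`. -/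
def assemble {d k : ℕ} (φ : Fin k → (Fin d → F) →ₗ[F] (ι → F)) :
    (Fin k → Fin d → F) →ₗ[F] (ι → F) where
  toFun v := ∑ j, φ j (v j)
  map_add' v w := by simp [Finset.sum_add_distrib]
  map_smul' c v := by simp [Finset.smul_sum]

/-- Equivariant copies of an irreducible module which span can be chosen independent. -/
theorem exists_blocks {N : Subgroup (GL ι F)} {d : ℕ} (A : N → Matrix (Fin d) (Fin d) F)
    (hirr : ∀ U : Submodule F (Fin d → F), (∀ n, ∀ u ∈ U, A n *ᵥ u ∈ U) → U = ⊥ ∨ U = ⊤)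
    (hgen : ∀ U : Submodule F (ι → F),
      (∀ φ : (Fin d → F) →ₗ[F] (ι → F),
        (∀ (n : N) x, ((n : GL ι F) : Matrix ι ι F) *ᵥ φ x = φ (A n *ᵥ x)) → ∀ x, φ x ∈ U) → U = ⊤) :
    ∃ (k : ℕ) (φ : Fin k → (Fin d → F) →ₗ[F] (ι → F)),
      (∀ j (n : N) x, ((n : GL ι F) : Matrix ι ι F) *ᵥ φ j x = φ j (A n *ᵥ x)) ∧
        Function.Bijective (assemble φ) := by
  classical
  have step : ∀ c : ℕ, ∀ (k : ℕ) (φ : Fin k → (Fin d → F) →ₗ[F] (ι → F)),
      (∀ j (n : N) x, ((n : GL ι F) : Matrix ι ι F) *ᵥ φ j x = φ j (A n *ᵥ x)) →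
      Function.Injective (assemble φ) →
      Module.finrank F (ι → F) - Module.finrank F (LinearMap.range (assemble φ)) ≤ c →
      ∃ (k : ℕ) (φ : Fin k → (Fin d → F) →ₗ[F] (ι → F)),
        (∀ j (n : N) x, ((n : GL ι F) : Matrix ι ι F) *ᵥ φ j x = φ j (A n *ᵥ x)) ∧
          Function.Bijective (assemble φ) := by
    intro c
    induction c with
    | zero =>
      intro k φ he hi hc
      refine ⟨k, φ, he, hi, LinearMap.range_eq_top.1 (Submodule.eq_top_of_finrank_eq ?_)⟩
      have := Submodule.finrank_le (LinearMap.range (assemble φ))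
      omega
    | succ c ih =>
      intro k φ he hi hc
      by_cases htop : LinearMap.range (assemble φ) = ⊤
      · exact ⟨k, φ, he, hi, LinearMap.range_eq_top.1 htop⟩
      obtain ⟨ψ, hψ, x₀, hx₀⟩ : ∃ ψ : (Fin d → F) →ₗ[F] (ι → F),
          (∀ (n : N) x, ((n : GL ι F) : Matrix ι ι F) *ᵥ ψ x = ψ (A n *ᵥ x)) ∧
            ∃ x, ψ x ∉ LinearMap.range (assemble φ) := by
        by_contra hcon
        push Not at hcon
        exact htop (hgen _ hcon)
      set R := LinearMap.range (assemble φ)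
      have hRinv : ∀ (n : N), ∀ r ∈ R, ((n : GL ι F) : Matrix ι ι F) *ᵥ r ∈ R := by
        rintro n _ ⟨v, rfl⟩
        refine ⟨fun j => A n *ᵥ v j, ?_⟩
        simp only [assemble, LinearMap.coe_mk, AddHom.coe_mk, Matrix.mulVec_sum, he]
      have hker : R.comap ψ = ⊥ := by
        refine (hirr (R.comap ψ) fun n u hu => ?_).resolve_right fun h => hx₀ ?_
        · rw [Submodule.mem_comap, ← hψ]
          exact hRinv n _ hu
        · have hm : x₀ ∈ R.comap ψ := h.symm ▸ Submodule.mem_top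
          exact hm
      let φ' : Fin (k + 1) → (Fin d → F) →ₗ[F] (ι → F) := Fin.cons ψ φ
      have hval : ∀ v : Fin (k + 1) → Fin d → F,
          assemble φ' v = ψ (v 0) + assemble φ (fun j => v j.succ) := by
        intro v
        simp [assemble, φ', Fin.sum_univ_succ]
      refine ih (k + 1) φ' ?_ ?_ ?_
      · intro j
        refine Fin.cases ?_ (fun i => ?_) j
        · simpa [φ'] using hψ
        · simpa [φ'] using he i
      · refine (injective_iff_map_eq_zero (assemble φ')).2 fun v hv => ?_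
        rw [hval] at hv
        have h0 : v 0 = 0 := by
          have hm : v 0 ∈ R.comap ψ := by
            rw [Submodule.mem_comap, eq_neg_of_add_eq_zero_left hv]
            exact R.neg_mem ⟨_, rfl⟩
          rwa [hker, Submodule.mem_bot] at hm
        rw [h0, map_zero, zero_add] at hv
        have hs := (injective_iff_map_eq_zero (assemble φ)).1 hi _ hv
        funext j
        refine Fin.cases h0 (fun i => ?_) j
        exact congrFun hs i
      · have hlt : R < LinearMap.range (assemble φ') := by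
          refine lt_of_le_of_ne ?_ fun h => hx₀ ?_
          · rintro _ ⟨v, rfl⟩
            exact ⟨Fin.cons 0 v, by simp [hval]⟩
          · rw [h]
            refine ⟨Fin.cons x₀ 0, ?_⟩
            rw [hval]
            simp [assemble]
        have := Submodule.finrank_lt_finrank_of_lt hlt
        omega
  refine step (Module.finrank F (ι → F)) 0 Fin.elim0 (fun j => j.elim0) ?_ (Nat.sub_le _ _)
  intro v w _
  exact Subsingleton.elim _ _

/-- The normaliser of a group acting as `k` copies of an irreducible module with only scalar endomorphisms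
stabilises a tensor decomposition, whose coordinates are given by the `k` copies. -/
theorem normalizer_le_tensor_coord {N : Subgroup (GL ι F)} {d k : ℕ} (A : N → Matrix (Fin d) (Fin d) F)
    (hirr : ∀ U : Submodule F (Fin d → F), (∀ n, ∀ u ∈ U, A n *ᵥ u ∈ U) → U = ⊥ ∨ U = ⊤)
    (hscal : ∀ M : Matrix (Fin d) (Fin d) F, (∀ n, M * A n = A n * M) → ∃ c : F, M = c • 1)
    (φ : Fin k → (Fin d → F) →ₗ[F] (ι → F))
    (hequiv : ∀ j (n : N) x, ((n : GL ι F) : Matrix ι ι F) *ᵥ φ j x = φ j (A n *ᵥ x))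
    (hbij : Function.Bijective (assemble φ)) :
    ∃ (e : ι ≃ Fin d × Fin k) (P : GL ι F),
      (∀ x : Fin d × Fin k → F, (P : Matrix ι ι F) *ᵥ (x ∘ e) = assemble φ (fun j i => x (i, j))) ∧
      ∀ h ∈ Subgroup.normalizer (N : Set (GL ι F)), h ∈ Cfsg.Geo.tensorProductSubgroup d k e P := by
  classical
  let sw : ((Fin d × Fin k) → F) ≃ₗ[F] (Fin k → Fin d → F) :=
    { toFun := fun x j i => x (i, j)
      invFun := fun v p => v p.2 p.1
      map_add' := fun _ _ => rfl
      map_smul' := fun _ _ => rfl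
      left_inv := fun _ => rfl
      right_inv := fun _ => rfl }
  let L : ((Fin d × Fin k) → F) ≃ₗ[F] (ι → F) := sw.trans (LinearEquiv.ofBijective _ hbij)
  have hcard : Fintype.card ι = Fintype.card (Fin d × Fin k) := by
    have := L.finrank_eq
    rw [Module.finrank_fintype_fun_eq_card, Module.finrank_fintype_fun_eq_card] at this
    exact this.symm
  let e : ι ≃ Fin d × Fin k := Fintype.equivOfCardEq hcard
  let T : (ι → F) ≃ₗ[F] (ι → F) := (LinearEquiv.funCongrLeft F F e.symm).trans L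
  let P : GL ι F :=
    ⟨LinearMap.toMatrix' T.toLinearMap, LinearMap.toMatrix' T.symm.toLinearMap,
      by rw [← LinearMap.toMatrix'_comp]; simp, by rw [← LinearMap.toMatrix'_comp]; simp⟩
  have hP : ∀ x : Fin d × Fin k → F, (P : Matrix ι ι F) *ᵥ (x ∘ e) = L x := by
    intro x
    show LinearMap.toMatrix' T.toLinearMap *ᵥ (x ∘ e) = L x
    rw [← Matrix.toLin'_apply, Matrix.toLin'_toMatrix']
    show L (LinearEquiv.funCongrLeft F F e.symm (x ∘ e)) = L x
    congr 1
    funext p
    simp [LinearEquiv.funCongrLeft]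
  refine ⟨e, P, hP, fun h hh => ?_⟩
  set S := assemble φ with hS
  let Φ := LinearEquiv.ofBijective S hbij
  let Mh : (Fin k → Fin d → F) →ₗ[F] (Fin k → Fin d → F) :=
    Φ.symm.toLinearMap ∘ₗ Matrix.toLin' (h : Matrix ι ι F) ∘ₗ Φ.toLinearMap
  have hMh : ∀ v, (h : Matrix ι ι F) *ᵥ S v = S (Mh v) := by
    intro v
    have : Φ (Mh v) = (h : Matrix ι ι F) *ᵥ Φ v := by
      simp [Mh, Matrix.toLin'_apply]
    exact this.symm
  have hN : ∀ (n : N) v, ((n : GL ι F) : Matrix ι ι F) *ᵥ S v = S (fun j => A n *ᵥ v j) := by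
    intro n v
    simp only [hS, assemble, LinearMap.coe_mk, AddHom.coe_mk, Matrix.mulVec_sum, hequiv]
  let conjN : N → N := fun n =>
    ⟨h * n * h⁻¹, (Subgroup.mem_normalizer_iff.1 hh _).1 n.2⟩
  have hcomm : ∀ n v, Mh (fun j => A n *ᵥ v j) = fun j => A (conjN n) *ᵥ Mh v j := by
    intro n v
    apply hbij.1
    show S _ = S _
    rw [← hMh, ← hN, ← hN, ← hMh, Matrix.mulVec_mulVec, Matrix.mulVec_mulVec, ← Units.val_mul,
      ← Units.val_mul]
    show _ = ((h * n * h⁻¹ * h : GL ι F) : Matrix ι ι F) *ᵥ _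
    rw [inv_mul_cancel_right]
  let B : Fin k → Fin k → Matrix (Fin d) (Fin d) F := fun a b =>
    LinearMap.toMatrix' ((LinearMap.proj a).comp (Mh.comp (LinearMap.single F (fun _ => Fin d → F) b)))
  have hB : ∀ a b x, B a b *ᵥ x = Mh (Pi.single b x) a := by
    intro a b x
    rw [← Matrix.toLin'_apply]
    simp [B]
  have hMB : ∀ v a, Mh v a = ∑ b, B a b *ᵥ v b := by
    intro v a
    conv_lhs => rw [← Finset.univ_sum_single v, map_sum, Finset.sum_apply]
    simp [hB]
  have hint : ∀ n a b, B a b * A n = A (conjN n) * B a b := by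
    intro n a b
    refine Matrix.toLin'.injective (LinearMap.ext fun x => ?_)
    rw [Matrix.toLin'_apply, Matrix.toLin'_apply, ← Matrix.mulVec_mulVec, ← Matrix.mulVec_mulVec,
      hB, hB]
    have hsingle : (fun j => A n *ᵥ (Pi.single b x : Fin k → Fin d → F) j) = Pi.single b (A n *ᵥ x) := by
      funext j
      by_cases hj : j = b
      · subst hj; simp
      · simp [hj]
    rw [← hsingle, hcomm]
  have hMinj : Function.Injective Mh := by
    intro v w hvw
    apply hbij.1
    have h1 : (h : Matrix ι ι F) *ᵥ S v = (h : Matrix ι ι F) *ᵥ S w := by rw [hMh, hMh, hvw]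
    have h2 := congrArg (fun u => ((h⁻¹ : GL ι F) : Matrix ι ι F) *ᵥ u) h1
    simpa [Matrix.mulVec_mulVec] using h2
  rcases Nat.eq_zero_or_pos (d * k) with hdk | hdk
  · have : IsEmpty ι := Fintype.card_eq_zero_iff.1 (by rw [hcard, Fintype.card_prod]; simpa using hdk)
    have h1 : h = 1 := Units.ext (Subsingleton.elim _ _)
    rw [h1]
    exact one_mem _
  have hd : 0 < d := pos_of_mul_pos_left hdk (Nat.zero_le k)
  have hk : 0 < k := pos_of_mul_pos_right hdk (Nat.zero_le d)
  obtain ⟨a₀, b₀, hne⟩ : ∃ a b, B a b ≠ 0 := by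
    by_contra hcon
    push Not at hcon
    haveI : Nonempty (Fin d) := ⟨⟨0, hd⟩⟩
    let v : Fin k → Fin d → F := fun _ _ => 1
    have h0 : Mh v = Mh 0 := by
      funext a
      rw [map_zero, hMB]
      simp [hcon]
    have := congrFun (congrFun (hMinj h0) ⟨0, hk⟩) ⟨0, hd⟩
    exact one_ne_zero this
  have hinv : ∃ C : GL (Fin d) F, (C : Matrix (Fin d) (Fin d) F) = B a₀ b₀ := by
    have hker : LinearMap.ker (Matrix.toLin' (B a₀ b₀)) = ⊥ := by
      refine (hirr _ fun n u hu => ?_).resolve_right fun htop => hne ?_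
      · rw [LinearMap.mem_ker, Matrix.toLin'_apply] at hu ⊢
        rw [Matrix.mulVec_mulVec, hint, ← Matrix.mulVec_mulVec, hu, Matrix.mulVec_zero]
      · refine Matrix.toLin'.injective ?_
        rw [map_zero]
        exact LinearMap.ker_eq_top.1 htop
    have hu : IsUnit (B a₀ b₀) := by
      rw [← Matrix.mulVec_injective_iff_isUnit]
      intro u w huw
      exact LinearMap.ker_eq_bot.1 hker (by rwa [Matrix.toLin'_apply, Matrix.toLin'_apply])
    exact ⟨hu.unit, hu.unit_spec⟩
  obtain ⟨C, hC⟩ := hinv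
  have hb : ∀ a b, ∃ c : F, ((C⁻¹ : GL (Fin d) F) : Matrix (Fin d) (Fin d) F) * B a b = c • 1 := by
    intro a b
    refine hscal _ fun n => ?_
    have h1 : A (conjN n) = (C : Matrix (Fin d) (Fin d) F) * A n * ((C⁻¹ : GL (Fin d) F) : Matrix (Fin d) (Fin d) F) := by
      rw [hC, hint, ← hC, mul_assoc, Units.mul_inv, mul_one]
    calc ((C⁻¹ : GL (Fin d) F) : Matrix (Fin d) (Fin d) F) * B a b * A n
        = ((C⁻¹ : GL (Fin d) F) : Matrix (Fin d) (Fin d) F) * (A (conjN n) * B a b) := by rw [mul_assoc, hint]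
      _ = A n * (((C⁻¹ : GL (Fin d) F) : Matrix (Fin d) (Fin d) F) * B a b) := by
        rw [h1, ← mul_assoc, ← mul_assoc, ← mul_assoc, Units.inv_mul, one_mul, mul_assoc]
  choose β hβ using hb
  have hBC : ∀ a b, B a b = β a b • (C : Matrix (Fin d) (Fin d) F) := by
    intro a b
    have := congrArg (fun M => (C : Matrix (Fin d) (Fin d) F) * M) (hβ a b)
    simpa [← mul_assoc] using this
  let β' : Matrix (Fin k) (Fin k) F := Matrix.of β
  have hu : IsUnit β' := by
    rw [← Matrix.mulVec_injective_iff_isUnit]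
    intro u w huw
    haveI : Nonempty (Fin d) := ⟨⟨0, hd⟩⟩
    let x₀ : Fin d → F := fun _ => 1
    have key : ∀ u : Fin k → F, Mh (fun b => u b • x₀) = fun a => (β' *ᵥ u) a • ((C : Matrix (Fin d) (Fin d) F) *ᵥ x₀) := by
      intro u
      funext a
      rw [hMB]
      show ∑ b, B a b *ᵥ (u b • x₀) = (∑ b, β a b * u b) • _
      rw [Finset.sum_smul]
      refine Finset.sum_congr rfl fun b _ => ?_
      rw [hBC, Matrix.smul_mulVec, Matrix.mulVec_smul, smul_smul]
    have h1 : (fun b => u b • x₀) = fun b => w b • x₀ := hMinj (by rw [key, key, huw])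
    funext b
    simpa [x₀] using congrFun (congrFun h1 b) ⟨0, hd⟩
  obtain ⟨D, hD⟩ := hu
  have hK : IsUnit ((C : Matrix (Fin d) (Fin d) F) ⊗ₖ (D : Matrix (Fin k) (Fin k) F)) :=
    IsUnit.of_mul_eq_one (((C⁻¹ : GL (Fin d) F) : Matrix (Fin d) (Fin d) F) ⊗ₖ
      ((D⁻¹ : GL (Fin k) F) : Matrix (Fin k) (Fin k) F)) (by
        rw [← Matrix.mul_kronecker_mul, Units.mul_inv, Units.mul_inv, Matrix.one_kronecker_one])
  obtain ⟨K, hK⟩ := hK
  refine ⟨Cfsg.Geo.glReindex e.symm K, ⟨K, ⟨C, D, hK⟩, rfl⟩, ?_⟩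
  show P * Cfsg.Geo.glReindex e.symm K * P⁻¹ = h
  rw [mul_inv_eq_iff_eq_mul]
  refine Units.ext (Matrix.toLin'.injective (LinearMap.ext fun y => ?_))
  rw [Matrix.toLin'_apply, Matrix.toLin'_apply, Units.val_mul, Units.val_mul, ← Matrix.mulVec_mulVec,
    ← Matrix.mulVec_mulVec]
  obtain ⟨x, rfl⟩ : ∃ x : Fin d × Fin k → F, y = x ∘ e := ⟨y ∘ e.symm, by simp [Function.comp_assoc]⟩
  have hre : (Cfsg.Geo.glReindex e.symm K : GL ι F).1 *ᵥ (x ∘ e) = ((K : Matrix _ _ F) *ᵥ x) ∘ e := by
    show Matrix.reindex e.symm e.symm (K : Matrix _ _ F) *ᵥ _ = _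
    rw [Matrix.reindex_apply, Equiv.symm_symm, Matrix.submatrix_mulVec_equiv, Function.comp_assoc,
      Equiv.self_comp_symm, Function.comp_id]
  rw [hre, hP, hP]
  show S (sw ((K : Matrix _ _ F) *ᵥ x)) = (h : Matrix ι ι F) *ᵥ S (sw x)
  rw [hMh]
  congr 1
  funext a i
  rw [hMB, hK, hD]
  show ∑ p : Fin d × Fin k, _ * x p = (∑ b, B a b *ᵥ fun j => x (j, b)) i
  rw [Finset.sum_apply, Fintype.sum_prod_type, Finset.sum_comm]
  refine Finset.sum_congr rfl fun b _ => ?_
  rw [hBC]
  refine Finset.sum_congr rfl fun j _ => ?_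
  simp only [Matrix.kroneckerMap_apply, Matrix.smul_apply, smul_eq_mul, β', Matrix.of_apply]
  ring

/-- The normaliser of a group acting as `k` copies of an irreducible module with only scalar endomorphisms
stabilises a tensor decomposition. -/
theorem normalizer_le_tensor {N : Subgroup (GL ι F)} {d k : ℕ} (A : N → Matrix (Fin d) (Fin d) F)
    (hirr : ∀ U : Submodule F (Fin d → F), (∀ n, ∀ u ∈ U, A n *ᵥ u ∈ U) → U = ⊥ ∨ U = ⊤)
    (hscal : ∀ M : Matrix (Fin d) (Fin d) F, (∀ n, M * A n = A n * M) → ∃ c : F, M = c • 1)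
    (φ : Fin k → (Fin d → F) →ₗ[F] (ι → F))
    (hequiv : ∀ j (n : N) x, ((n : GL ι F) : Matrix ι ι F) *ᵥ φ j x = φ j (A n *ᵥ x))
    (hbij : Function.Bijective (assemble φ)) :
    ∃ (e : ι ≃ Fin d × Fin k) (P : GL ι F), ∀ h ∈ Subgroup.normalizer (N : Set (GL ι F)),
      h ∈ Cfsg.Geo.tensorProductSubgroup d k e P := by
  obtain ⟨e, P, -, hn⟩ := normalizer_le_tensor_coord A hirr hscal φ hequiv hbij
  exact ⟨e, P, hn⟩

end Cfsg.Agent.Lib.MaxTensor
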